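import Cfsg.Agent.Dickson.Torus
import Cfsg.Agent.Classical.SmallPSL
import Cfsg.Agent.Classical.SylowTwoSL
import Cfsg.Agent.Classical.PSLTwoSub
import Cfsg.Agent.Transfer.QuaternionSection
import Cfsg.Agent.Unitary.ThreeTwo

/-!
Elements of order a power of the characteristic normalising a subgroup of prime-to-p order in SL(2,q).
-/

set_option autoImplicit false

namespace CfsgLib.SL2Automizer

open CfsgLib.Dickson CfsgLib.Dickson.Torus

theorem perm_four_count : Fintype.card {g : Equiv.Perm (Fin 4) // g ^ 8 = 1} = 16 := by decide +kernel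

/-- No normal subgroup of order eight in the symmetric group of degree four. -/
theorem not_normal_eight (N : Subgroup (Equiv.Perm (Fin 4))) [hN : N.Normal] (h8 : Nat.card N = 8) : False := by
  haveI : Fact (Nat.Prime 2) := ⟨Nat.prime_two⟩
  have hp : IsPGroup 2 N := IsPGroup.of_card (n := 3) h8
  have hsub : ∀ g : Equiv.Perm (Fin 4), g ^ 8 = 1 → g ∈ N := by
    intro g hg
    obtain ⟨P, hP⟩ := hp.exists_le_sylow
    have h24 : Nat.card (Equiv.Perm (Fin 4)) = 2 ^ 3 * 3 := by
      rw [Nat.card_perm, Nat.card_fin]; rfl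
    have hPN : (P : Subgroup (Equiv.Perm (Fin 4))) = N := by
      refine (Subgroup.eq_of_le_of_card_ge hP ?_).symm
      rw [h8, P.card_eq_multiplicity, h24, Nat.factorization_mul (by norm_num) (by norm_num),
        Nat.prime_two.factorization_pow, Nat.prime_three.factorization]
      simp
    have hg2 : IsPGroup 2 (Subgroup.zpowers g) := by
      obtain ⟨j, -, hj⟩ := (Nat.dvd_prime_pow Nat.prime_two).1 (orderOf_dvd_of_pow_eq_one (n := 2 ^ 3) hg)
      exact IsPGroup.of_card (n := j) (by rw [Nat.card_zpowers, hj])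
    have := (P.is_maximal' (hp.to_sup_of_normal_left hg2) (hPN ▸ le_sup_left)).le
      (Subgroup.mem_sup_right (Subgroup.mem_zpowers g))
    rwa [hPN] at this
  have := Nat.card_le_card_of_injective (fun g : {g : Equiv.Perm (Fin 4) // g ^ 8 = 1} => (⟨g.1, hsub _ g.2⟩ : N))
    (fun a b h => Subtype.ext (congrArg (fun x : N => (x : Equiv.Perm (Fin 4))) h))
  rw [Nat.card_eq_fintype_card, perm_four_count, h8] at this
  omega

/-- An element normalising a subgroup of order at most two centralises it. -/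
theorem commute_of_card_le_two {G : Type*} [Group G] [Finite G] {N : Subgroup G} (h : Nat.card N ≤ 2)
    {a : G} (ha : a ∈ Subgroup.normalizer (N : Set G)) {n : G} (hn : n ∈ N) : Commute a n := by
  classical
  have := Fintype.ofFinite N
  rw [Nat.card_eq_fintype_card] at h
  have hc := (Subgroup.mem_normalizer_iff.1 ha n).1 hn
  by_cases h1 : n = 1
  · subst h1; exact Commute.one_right _
  have h2 : a * n * a⁻¹ ≠ 1 := fun e => h1 (conj_eq_one_iff.1 e)
  by_contra hne
  have h3 : a * n * a⁻¹ ≠ n := fun e => hne (mul_inv_eq_iff_eq_mul.1 e)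
  have : ({1, ⟨n, hn⟩, ⟨a * n * a⁻¹, hc⟩} : Finset N).card = 3 := by
    rw [Finset.card_insert_of_notMem, Finset.card_insert_of_notMem, Finset.card_singleton]
    · simp [Subtype.ext_iff, Ne.symm h3]
    · simp [Subtype.ext_iff, Ne.symm h1, Ne.symm h2]
  have h4 := Finset.card_le_univ ({1, ⟨n, hn⟩, ⟨a * n * a⁻¹, hc⟩} : Finset N)
  omega

theorem simple_normal_absurd {X : Type*} [Group X] [Finite X] [IsSimpleGroup X] {p : ℕ} [Fact p.Prime]
    (hpX : p ∣ Nat.card X) (N : Subgroup X) [N.Normal] (hN : (Nat.card N).Coprime p) : N = ⊥ :=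
  (Subgroup.Normal.eq_bot_or_eq_top inferInstance).resolve_right fun h => by
    rw [h, Subgroup.card_top] at hN
    exact (Fact.out : p.Prime).coprime_iff_not_dvd.1 hN.symm hpX

variable {F : Type*} [Field F] [Finite F] {p : ℕ} [hp : Fact p.Prime] [CharP F p]

/-- A non-centralising element of order a power of the characteristic: the projective picture. -/
theorem shape (hp2 : p ≠ 2) (N A : Subgroup (PSL2 F)) (hA : IsPGroup p A) (hN : (Nat.card N).Coprime p)
    (hAN : A ≤ Subgroup.normalizer (N : Set (PSL2 F))) (hnc : ¬ A ≤ Subgroup.centralizer (N : Set (PSL2 F))) :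
    p = 3 ∧ Nat.card N = 4 ∧ Nat.card A = 3 := by
  classical
  set H := N ⊔ A with hH
  have hAH : A ≤ H := le_sup_right
  have hNH : N ≤ H := le_sup_left
  haveI hNn : (N.subgroupOf H).Normal :=
    (Subgroup.normal_subgroupOf_iff_le_normalizer hNH).2 (sup_le Subgroup.le_normalizer hAN)
  have hA1 : A ≠ ⊥ := fun h => hnc (h ▸ bot_le)
  obtain ⟨a, ha⟩ := IsPGroup.iff_card.1 hA
  have ha0 : a ≠ 0 := fun h => hA1 (Subgroup.card_eq_one.1 (by rw [ha, h, pow_zero]))
  have hpH : p ∣ Nat.card H :=
    ((dvd_pow_self p ha0).trans ha.symm.dvd).trans (Subgroup.card_dvd_of_le hAH)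
  have hcard : Nat.card H = Nat.card N * Nat.card A := by
    have h1 : Nat.Coprime (Nat.card N) (Nat.card A) := ha ▸ hN.pow_right a
    have hi : N ⊓ A = ⊥ := Subgroup.inf_eq_bot_of_coprime h1
    have hmul : ∀ x ∈ H, ∃ n ∈ N, ∃ b ∈ A, x = n * b := by
      intro x hx
      have hx' : x ∈ ((N ⊔ A : Subgroup (PSL2 F)) : Set (PSL2 F)) := hx
      rw [Subgroup.coe_mul_of_right_le_normalizer_left N A hAN] at hx'
      obtain ⟨n, hn, b, hb, rfl⟩ := hx'
      exact ⟨n, hn, b, hb, rfl⟩
    let f : N × A → H := fun x => ⟨x.1 * x.2, mul_mem (hNH x.1.2) (hAH x.2.2)⟩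
    have hf : Function.Bijective f := by
      refine ⟨fun x y h => ?_, fun ⟨x, hx⟩ => ?_⟩
      · exact Subgroup.mul_injective_of_disjoint (disjoint_iff.2 hi) (congrArg Subtype.val h)
      · obtain ⟨n, hn, b, hb, rfl⟩ := hmul x hx
        exact ⟨(⟨n, hn⟩, ⟨b, hb⟩), rfl⟩
    rw [← Nat.card_eq_of_bijective f hf, Nat.card_prod]
  have key : ∀ {X : Type} [Group X] [Finite X] (e : H ≃* X),
      ((N.subgroupOf H).map e.toMonoidHom).Normal ∧
      Nat.card ((N.subgroupOf H).map e.toMonoidHom) = Nat.card N := fun e => by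
    refine ⟨hNn.map _ e.surjective, ?_⟩
    rw [Subgroup.card_map_of_injective (f := e.toMonoidHom) e.injective,
      Nat.card_congr (Subgroup.subgroupOfEquivOfLe hNH).toEquiv]
  have hN1 : Nat.card N ≠ 1 := fun h => hnc (fun b _ => Subgroup.mem_centralizer_iff.2 fun n hn => by
    rw [Subgroup.card_eq_one.1 h] at hn
    rw [show n = 1 from Subgroup.mem_bot.1 hn, one_mul, mul_one])
  have hN2 : ¬ Nat.card N ≤ 2 := fun h => hnc fun b hb => Subgroup.mem_centralizer_iff.2 fun n hn =>
    (commute_of_card_le_two h (hAN hb) hn).eq.symm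
  rcases psl_classification p H with ⟨P, -, hle⟩ | ⟨-, hh, -⟩ | ⟨n, -, hpn, -, hc, -⟩ |
    ⟨h5, hc, -⟩ | ⟨h5, hc, -⟩ | ⟨-, hp5, hc, ⟨e⟩⟩ | ⟨f, m, hf, hm, hqf, hc⟩
  · exfalso
    refine hnc fun b hb => Subgroup.mem_centralizer_iff.2 fun n hn => ?_
    have hPn : ∀ y ∈ Subgroup.normalizer ((P : Subgroup (PSL2 F)) : Set (PSL2 F)),
        (∃ k, orderOf y = p ^ k) → y ∈ P := fun y hy ⟨k, hk⟩ => by
      have hpz : IsPGroup p ((P : Subgroup (PSL2 F)) ⊔ Subgroup.zpowers y : Subgroup (PSL2 F)) :=
        P.isPGroup'.to_sup_of_normal_left' (IsPGroup.of_card (n := k) (by rw [Nat.card_zpowers, hk]))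
          (Subgroup.zpowers_le.2 hy)
      exact (P.is_maximal' hpz le_sup_left).le (Subgroup.mem_sup_right (Subgroup.mem_zpowers y))
    obtain ⟨k, hk⟩ := IsPGroup.iff_orderOf.1 hA ⟨b, hb⟩
    rw [Subgroup.orderOf_mk] at hk
    have hbP : b ∈ P := hPn b (hle (hAH hb)) ⟨k, hk⟩
    have hnN : n⁻¹ * (b * n * b⁻¹) ∈ N :=
      mul_mem (inv_mem hn) ((Subgroup.mem_normalizer_iff.1 (hAN hb) n).1 hn)
    have hnP : n⁻¹ * (b * n * b⁻¹) ∈ (P : Subgroup (PSL2 F)) := by
      have h1 := (Subgroup.mem_normalizer_iff.1 (inv_mem (hle (hNH hn))) b).1 hbP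
      rw [inv_inv] at h1
      rw [show n⁻¹ * (b * n * b⁻¹) = n⁻¹ * b * n * b⁻¹ by group]
      exact mul_mem h1 (inv_mem hbP)
    obtain ⟨j, hj⟩ := IsPGroup.iff_orderOf.1 P.isPGroup' ⟨_, hnP⟩
    rw [Subgroup.orderOf_mk] at hj
    have hone : n⁻¹ * (b * n * b⁻¹) = 1 := by
      rw [← orderOf_eq_one_iff, ← Nat.dvd_one, ← hN.pow_right j]
      exact Nat.dvd_gcd (Subgroup.orderOf_dvd_natCard _ hnN) hj.dvd
    rw [inv_mul_eq_one] at hone
    exact eq_mul_inv_iff_mul_eq.1 hone
  · exact absurd hpH hh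
  · rw [hc] at hpH
    exact absurd (((Nat.coprime_primes hp.out Nat.prime_two).2 hp2).dvd_of_dvd_mul_left hpH) hpn
  · rw [hc] at hpH
    exfalso
    have := Nat.le_of_dvd (by norm_num) hpH
    interval_cases p <;> revert hpH <;> first | decide | (exact absurd hp.out (by norm_num))
  · rw [hc] at hpH
    exfalso
    have := Nat.le_of_dvd (by norm_num) hpH
    interval_cases p <;> revert hpH <;> first | decide | (exact absurd hp.out (by norm_num))
  · exfalso
    haveI : IsSimpleGroup (alternatingGroup (Fin 5)) := alternatingGroup.isSimpleGroup_five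
    obtain ⟨hn', hc'⟩ := key e
    haveI := hn'
    have := simple_normal_absurd (p := p) (Nat.card_congr e.toEquiv ▸ hpH) ((N.subgroupOf H).map e.toMonoidHom)
      (hc' ▸ hN)
    rw [this, Subgroup.card_bot] at hc'
    exact hN1 hc'.symm
  · have hKc := CfsgLib.Linear.PSLTwo.card_gf p f hf
    set K := GaloisField p f
    haveI : Fintype K := Fintype.ofFinite K
    have hpK : p ∣ Nat.card K := by rw [hKc]; exact dvd_pow_self p (by omega)
    have hKodd : Odd (Nat.card K) := by rw [hKc]; exact (hp.out.odd_of_ne_two hp2).pow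
    have hK3 : 3 ≤ Nat.card K := by
      have := Nat.le_of_dvd Nat.card_pos hpK
      have := hp.out.two_le
      omega
    haveI := CfsgLib.Dickson.Torus.finite_pgl K
    by_cases hK4 : 4 ≤ Nat.card K
    · exfalso
      haveI := CfsgLib.Linear.PSLTwo.isSimple (F := K) hK4
      rcases hc with ⟨⟨e⟩⟩ | ⟨-, ⟨e⟩⟩
      · obtain ⟨hn', hc'⟩ := key e
        haveI := hn'
        set X := (N.subgroupOf H).map e.toMonoidHom
        have hb : (X.comap (Matrix.ProjectiveSpecialLinearGroup.toPGL (n := Fin 2) (R := K))) = ⊥ := by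
          refine simple_normal_absurd (p := p) (CfsgLib.Linear.PSLTwo.dvd_card p) _ ?_
          refine Nat.Coprime.coprime_dvd_left ?_ (hc' ▸ hN : (Nat.card X).Coprime p)
          exact Subgroup.card_comap_dvd_of_injective X _ Matrix.ProjectiveSpecialLinearGroup.toPGL_injective
        refine hN2 (hc' ▸ ?_)
        have hidx : (pslTop K).index ≤ 2 := by
          rw [index_pslTop]
          exact Nat.le_of_dvd two_pos (Nat.gcd_dvd_left _ _)
        haveI := pslTop_normal K
        refine le_trans ?_ hidx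
        rw [Subgroup.index_eq_card]
        refine Nat.card_le_card_of_injective (fun x : X => ((x : PGL2 K) : PGL2 K ⧸ pslTop K)) fun x y h => ?_
        obtain ⟨z, hz⟩ := QuotientGroup.eq.1 h
        have : z ∈ X.comap (Matrix.ProjectiveSpecialLinearGroup.toPGL (n := Fin 2) (R := K)) := by
          rw [Subgroup.mem_comap, hz]
          exact mul_mem (inv_mem x.2) y.2
        rw [hb, Subgroup.mem_bot] at this
        rw [this, map_one] at hz
        exact Subtype.ext (inv_mul_eq_one.1 hz.symm)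
      · obtain ⟨hn', hc'⟩ := key e
        haveI := hn'
        have := simple_normal_absurd (p := p) (CfsgLib.Linear.PSLTwo.dvd_card (F := K) p)
          ((N.subgroupOf H).map e.toMonoidHom) (hc' ▸ hN)
        rw [this, Subgroup.card_bot] at hc'
        exact hN1 hc'.symm
    · have hK : Nat.card K = 3 := by omega
      have hp3 : p = 3 := ((Nat.prime_dvd_prime_iff_eq hp.out Nat.prime_three).1 (hK ▸ hpK))
      subst hp3
      have hN3 : ¬ 3 ∣ Nat.card N := fun h => by
        exact absurd (Nat.dvd_gcd h (dvd_refl 3)) (by rw [hN]; norm_num)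
      have hsplit : ∀ c : ℕ, Nat.card H = c * 3 → ¬ 3 ∣ c → Nat.card N = c ∧ Nat.card A = 3 := by
        intro c hHc h3c
        rw [hcard, ha] at hHc
        have h1 : 3 ^ a ∣ c * 3 := ⟨Nat.card N, by rw [← hHc]; ring⟩
        have h2 : 3 ^ a ∣ 3 := (Nat.Coprime.pow_left a ((Nat.prime_three.coprime_iff_not_dvd).2 h3c)).dvd_of_dvd_mul_left h1
        have h3 : a = 1 := by
          have := Nat.le_of_dvd (by norm_num) h2
          rcases Nat.lt_or_ge a 2 with h | h
          · omega
          · have := Nat.pow_le_pow_right (show 3 > 0 by norm_num) h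
            omega
        rw [h3, pow_one] at ha hHc
        exact ⟨by omega, ha⟩
      refine ⟨rfl, ?_⟩
      have hd : Nat.gcd 2 (Nat.card K - 1) = 2 := by rw [hK]; rfl
      have hpsl : Nat.card (PSL2 K) = 12 := by
        have := CfsgLib.Linear.PSLTwo.mul_card (F := K)
        rw [hd, hK] at this
        omega
      rcases hc with ⟨⟨e⟩⟩ | ⟨-, ⟨e⟩⟩
      · exfalso
        obtain ⟨h8, -⟩ := hsplit 8 (by rw [Nat.card_congr e.toEquiv, CfsgLib.Linear.PSLTwo.card_pgl, hK]; norm_num) (by norm_num)
        obtain ⟨eP⟩ : Nonempty (OnePoint K ≃ Fin 4) :=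
          ⟨Fintype.equivFinOfCardEq (by rw [← Nat.card_eq_fintype_card]; change Nat.card (Option K) = _; rw [Finite.card_option, hK])⟩
        let g := eP.permCongrHom.toMonoidHom.comp ((CfsgLib.Linear.Small.pglPerm K).comp e.toMonoidHom)
        have hg : Function.Injective g :=
          eP.permCongrHom.injective.comp (CfsgLib.Linear.Small.pglPerm_injective.comp e.injective)
        have hgs : Function.Surjective g := by
          refine (hg.bijective_of_nat_card_le ?_).2
          rw [Nat.card_perm, Nat.card_fin, hcard, h8, ha]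
          have : 0 < a := by omega
          have := Nat.le_self_pow this.ne' 3
          simp [Nat.factorial]
          omega
        haveI := hNn.map g hgs
        refine not_normal_eight ((N.subgroupOf H).map g) ?_
        rw [Subgroup.card_map_of_injective hg, Nat.card_congr (Subgroup.subgroupOfEquivOfLe hNH).toEquiv, h8]
      · exact hsplit 4 (by rw [Nat.card_congr e.toEquiv, hpsl]) (by norm_num)

end CfsgLib.SL2Automizer
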